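import Mathlib
import Groth.Agent.EtaleBase.IntegralAlg

/-!
# Étale neighbourhoods separating the geometric points of an integral algebra

An integral algebra with finitely many geometric points over a geometric point of the base splits,
after an étale neighbourhood, in factors with a single geometric point each.
-/

set_option autoImplicit false

universe u

open TensorProduct

noncomputable section

namespace Groth.IntSplit

open Groth.EtaleBase.IntegralAlg

section points

variable {R S : Type u} [CommRing R] [CommRing S] [Algebra R S] [Algebra.IsIntegral R S]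
  (p : Ideal R) [p.IsPrime] {Ω : Type u} [Field Ω] [Algebra R Ω] [Algebra p.ResidueField Ω]
  [IsScalarTower R p.ResidueField Ω]

omit [Algebra.IsIntegral R S] in
theorem comap_ker_eq (χ : S →ₐ[R] Ω) : (RingHom.ker χ).comap (algebraMap R S) = p := by
  ext r
  rw [Ideal.mem_comap, RingHom.mem_ker, AlgHom.commutes,
    IsScalarTower.algebraMap_apply R p.ResidueField Ω, map_eq_zero,
    Ideal.algebraMap_residueField_eq_zero]

/-- Finitely many geometric points over `p`. -/
theorem finite_points (hfin : {q : PrimeSpectrum S | q.asIdeal.comap (algebraMap R S) = p}.Finite)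
    (hsep : ∀ (q : PrimeSpectrum S) (hq : q.asIdeal.comap (algebraMap R S) = p),
      letI := (Ideal.ResidueField.map p q.asIdeal (algebraMap R S) hq.symm).toAlgebra
      Module.Finite p.ResidueField (separableClosure p.ResidueField q.asIdeal.ResidueField)) :
    Finite (S →ₐ[R] Ω) := by
  classical
  haveI := hfin.to_subtype
  let Φ : (S →ₐ[R] Ω) → {q : PrimeSpectrum S | q.asIdeal.comap (algebraMap R S) = p} :=
    fun χ => ⟨⟨RingHom.ker χ, RingHom.ker_isPrime χ⟩, comap_ker_eq p χ⟩
  suffices h : ∀ q, Finite {χ // Φ χ = q} from Finite.of_equiv _ (Equiv.sigmaFiberEquiv Φ)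
  intro q
  obtain ⟨⟨Q, hQp⟩, hQ⟩ := q
  letI : Algebra p.ResidueField Q.ResidueField :=
    (Ideal.ResidueField.map p Q (algebraMap R S) hQ.symm).toAlgebra
  haveI : Module.Finite p.ResidueField (separableClosure p.ResidueField Q.ResidueField) :=
    hsep ⟨Q, hQp⟩ hQ
  haveI : IsScalarTower R p.ResidueField Q.ResidueField := .of_algebraMap_eq fun r => by
    rw [RingHom.algebraMap_toAlgebra, Ideal.ResidueField.map_algebraMap,
      ← IsScalarTower.algebraMap_apply]
  haveI : Algebra.IsIntegral R (S ⧸ Q) := Algebra.IsIntegral.of_surjective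
    (Ideal.Quotient.mkₐ R Q) Ideal.Quotient.mk_surjective
  haveI : Algebra.IsAlgebraic p.ResidueField Q.ResidueField := by
    refine ⟨fun z => ?_⟩
    obtain ⟨⟨a, b⟩, hab⟩ := IsLocalization.surj (nonZeroDivisors (S ⧸ Q)) z
    obtain ⟨a, rfl⟩ := Ideal.Quotient.mk_surjective a
    obtain ⟨b', hb'⟩ := Ideal.Quotient.mk_surjective (b : S ⧸ Q)
    have key : ∀ c : S, IsIntegral p.ResidueField (algebraMap S Q.ResidueField c) := fun c =>
      (((Algebra.IsIntegral.isIntegral (R := R) c).map
        (IsScalarTower.toAlgHom R S Q.ResidueField)).tower_top)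
    rw [← hb'] at hab
    simp only [Ideal.algebraMap_quotient_residueField_mk] at hab
    have hb0 : algebraMap S Q.ResidueField b' ≠ 0 := fun h => by
      rw [Ideal.algebraMap_residueField_eq_zero, ← Ideal.Quotient.eq_zero_iff_mem, hb'] at h
      exact nonZeroDivisors.ne_zero b.2 h
    rw [eq_div_of_mul_eq hb0 hab, div_eq_mul_inv]
    exact ((key a).mul (key b').inv).isAlgebraic
  -- the points with kernel `Q` inject into the embeddings of the separable closure
  have hlift : ∀ χ : S →ₐ[R] Ω, RingHom.ker χ = Q →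
      ∃ σ : Q.ResidueField →ₐ[p.ResidueField] Ω, ∀ s, σ (algebraMap S Q.ResidueField s) = χ s := by
    intro χ hχ
    let σ₀ : Q.ResidueField →+* Ω := Ideal.ResidueField.lift Q χ.toRingHom hχ.ge fun x hx =>
      IsUnit.mk0 _ fun h0 => hx (hχ ▸ RingHom.mem_ker.2 h0)
    have hσ₀ : ∀ s, σ₀ (algebraMap S Q.ResidueField s) = χ s := fun s =>
      Ideal.ResidueField.lift_algebraMap (I := Q) _ _ _ s
    have hcomm : σ₀.comp (algebraMap p.ResidueField Q.ResidueField) =
        algebraMap p.ResidueField Ω := by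
      refine Ideal.ResidueField.ringHom_ext (RingHom.ext fun r => ?_)
      simp only [RingHom.comp_apply]
      rw [← IsScalarTower.algebraMap_apply R p.ResidueField Q.ResidueField,
        IsScalarTower.algebraMap_apply R S Q.ResidueField, hσ₀, AlgHom.commutes,
        ← IsScalarTower.algebraMap_apply]
    exact ⟨{ σ₀ with commutes' := fun c => RingHom.congr_fun hcomm c }, hσ₀⟩
  have hker : ∀ χ : {χ : S →ₐ[R] Ω // Φ χ = ⟨⟨Q, hQp⟩, hQ⟩}, RingHom.ker χ.1 = Q := fun χ =>
    congrArg (fun z : {q : PrimeSpectrum S | q.asIdeal.comap (algebraMap R S) = p} => z.1.asIdeal) χ.2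
  choose σ hσ using fun χ => hlift χ.1 (hker χ)
  refine Finite.of_injective
    (fun χ => (σ χ).comp (separableClosure p.ResidueField Q.ResidueField).val) fun χ χ' h => ?_
  refine Subtype.ext (AlgHom.ext fun s => ?_)
  obtain ⟨r, _⟩ := ExpChar.exists p.ResidueField
  haveI : ExpChar Ω r := expChar_of_injective_algebraMap (algebraMap p.ResidueField Ω).injective r
  obtain ⟨m, c, hc⟩ := IsPurelyInseparable.pow_mem
    (separableClosure p.ResidueField Q.ResidueField) (ringExpChar p.ResidueField)
    (algebraMap S Q.ResidueField s)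
  have h1 := AlgHom.congr_fun h c
  simp only [AlgHom.comp_apply] at h1
  change σ χ (algebraMap _ Q.ResidueField c) = σ χ' (algebraMap _ Q.ResidueField c) at h1
  rw [hc, map_pow, map_pow, hσ, hσ] at h1
  haveI : ExpChar Ω (ringExpChar p.ResidueField) := by
    rw [ringExpChar.eq p.ResidueField r]; infer_instance
  exact iterateFrobenius_inj Ω (ringExpChar p.ResidueField) m (by simpa [iterateFrobenius_def] using h1)

end points

section separate

variable {A Ω : Type u} [CommRing A] [Field Ω] [Algebra A Ω]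
  {S : Type u} [CommRing S] [Algebra A S] [Algebra.IsIntegral A S]

/-- The points are isolated on a common étale neighbourhood. -/
theorem exists_nbhd_isolates {S₀ : Type u} [CommRing S₀] [Algebra A S₀] [Module.Finite A S₀]
    (Y : Finset (S₀ →ₐ[A] Ω)) :
    ∃ N : Nbhd A Ω, ∀ ψ ∈ Y, ∃ e : N.R ⊗[A] S₀, Isolates N {ψ} e := by
  classical
  induction Y using Finset.induction_on with
  | empty => exact ⟨⟨A, Algebra.ofId A Ω⟩, by simp⟩
  | insert ψ Y _ ih =>
    obtain ⟨M, hM⟩ := ih
    obtain ⟨N, e, he⟩ := exists_isolates_point (A := A) ψ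
    refine ⟨M.inf N, fun φ hφ => ?_⟩
    rcases Finset.mem_insert.1 hφ with rfl | hφ
    · exact ⟨_, he.mono (N := M.inf N) Algebra.TensorProduct.includeRight
        (Algebra.TensorProduct.lift_comp_includeRight _ _ fun _ _ => Commute.all _ _)⟩
    · obtain ⟨e', he'⟩ := hM φ hφ
      exact ⟨_, he'.mono (N := M.inf N) Algebra.TensorProduct.includeLeft
        (Algebra.TensorProduct.lift_comp_includeLeft _ _ fun _ _ => Commute.all _ _)⟩

/-- Complete orthogonal idempotents with prescribed values at the geometric points. -/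
theorem exists_idempotents [Finite (S →ₐ[A] Ω)] {m : ℕ} (χ : Fin (m + 1) ≃ (S →ₐ[A] Ω)) :
    ∃ (N : Nbhd A Ω) (f : Fin (m + 1) → N.R ⊗[A] S), CompleteOrthogonalIdempotents f ∧
      ∀ i j, N.ev (χ j) (f i) = if i = j then 1 else 0 := by
  classical
  -- a finite subalgebra separating the points
  have hsepar : ∀ ij : Fin (m + 1) × Fin (m + 1), ∃ s : S, ij.1 ≠ ij.2 → χ ij.1 s ≠ χ ij.2 s :=
    fun ij => by
      by_cases h : ij.1 = ij.2
      · exact ⟨0, fun h' => absurd h h'⟩
      · have hne : χ ij.1 ≠ χ ij.2 := fun e => h (χ.injective e)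
        obtain ⟨s, hs⟩ : ∃ s, χ ij.1 s ≠ χ ij.2 s := by
          by_contra! hall
          exact hne (AlgHom.ext hall)
        exact ⟨s, fun _ => hs⟩
  choose w hw using hsepar
  let S₀ := Algebra.adjoin A (Set.range w)
  haveI : Module.Finite A S₀ :=
    Module.Finite.iff_fg.2 (fg_adjoin_of_finite (Set.finite_range w)
      fun b _ => Algebra.IsIntegral.isIntegral b)
  let χ₀ : Fin (m + 1) → (S₀ →ₐ[A] Ω) := fun i => (χ i).comp S₀.val
  have hχ₀ : Function.Injective χ₀ := fun i j h => by_contra fun hne =>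
    hw (i, j) hne (AlgHom.congr_fun h ⟨w (i, j), Algebra.subset_adjoin ⟨(i, j), rfl⟩⟩)
  obtain ⟨N, hN⟩ := exists_nbhd_isolates (Finset.univ.image χ₀)
  choose e₀ he₀ using fun i => hN (χ₀ i) (Finset.mem_image_of_mem χ₀ (Finset.mem_univ i))
  let φ : N.R ⊗[A] S₀ →ₐ[A] N.R ⊗[A] S := Algebra.TensorProduct.map (AlgHom.id A N.R) S₀.val
  have hφ : ∀ χ' : S →ₐ[A] Ω, ∀ x, N.ev χ' (φ x) = N.ev (χ'.comp S₀.val) x := by
    intro χ' x
    induction x using TensorProduct.induction_on with
    | zero => simp
    | tmul r s => simp [φ]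
    | add a b ha hb => simp only [map_add, ha, hb]
  let e : Fin (m + 1) → N.R ⊗[A] S := fun i => φ (e₀ i)
  have he : ∀ i, IsIdempotentElem (e i) := fun i => (he₀ i).idem.map φ
  have hev : ∀ i j, N.ev (χ j) (e i) = if i = j then 1 else 0 := by
    intro i j
    rw [hφ]
    by_cases h : i = j
    · subst h
      rw [if_pos rfl]
      exact ((he₀ i).pt _).2 rfl
    · rw [if_neg h]
      refine (N.ev_idem (he₀ i).idem _).resolve_right fun h1 => h ?_
      exact (hχ₀ (((he₀ i).pt _).1 h1)).symm
  -- orthogonalisation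
  let g : Fin (m + 1) → N.R ⊗[A] S := fun i => e i * ∏ j ∈ Finset.Iio i, (1 - e j)
  have hgI : ∀ i, IsIdempotentElem (g i) := fun i => by
    refine IsIdempotentElem.mul (he i) ?_
    induction Finset.Iio i using Finset.induction_on with
    | empty => rw [Finset.prod_empty]; exact .one
    | insert l t hl ih => rw [Finset.prod_insert hl]; exact (he l).one_sub.mul ih
  have hgo : ∀ i l, i < l → g i * g l = 0 := fun i l hil => by
    have h0 : e i * ∏ j ∈ Finset.Iio l, (1 - e j) = 0 := by
      rw [← Finset.mul_prod_erase _ _ (Finset.mem_Iio.2 hil), ← mul_assoc, mul_sub, mul_one, (he i).eq,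
        sub_self, zero_mul]
    calc g i * g l = (∏ j ∈ Finset.Iio i, (1 - e j)) * e l *
        (e i * ∏ j ∈ Finset.Iio l, (1 - e j)) := by simp only [g]; ring
      _ = 0 := by rw [h0, mul_zero]
  have horth : OrthogonalIdempotents g :=
    ⟨hgI, fun i l hne => (lt_or_gt_of_ne hne).elim (hgo i l) fun h => by
      show g i * g l = 0
      rw [mul_comm]; exact hgo l i h⟩
  have hgev : ∀ i j, N.ev (χ j) (g i) = if i = j then 1 else 0 := by
    intro i j
    simp only [g, map_mul, map_prod, map_sub, map_one, hev]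
    by_cases h : i = j
    · subst h
      rw [if_pos rfl, one_mul]
      exact Finset.prod_eq_one fun l hl => by rw [if_neg (Finset.mem_Iio.1 hl).ne, sub_zero]
    · rw [if_neg h, zero_mul]
  let f : Fin (m + 1) → N.R ⊗[A] S :=
    fun i => if i = 0 then 1 - ∑ l ∈ Finset.univ.erase 0, g l else g i
  have hs := horth.isIdempotentElem_sum (s := Finset.univ.erase (0 : Fin (m + 1)))
  have hsg : ∀ l ≠ 0, (∑ i ∈ Finset.univ.erase (0 : Fin (m + 1)), g i) * g l = g l := fun l hl => by
    rw [Finset.sum_mul, Finset.sum_eq_single l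
      (fun i _ hil => horth.ortho hil)
      (fun h => absurd (Finset.mem_erase.2 ⟨hl, Finset.mem_univ l⟩) h)]
    exact (hgI l).eq
  refine ⟨N, f, ⟨⟨fun i => ?_, fun i l hne => ?_⟩, ?_⟩, fun i j => ?_⟩
  · simp only [f]
    split_ifs
    exacts [hs.one_sub, hgI i]
  · show f i * f l = 0
    simp only [f]
    split_ifs with hi hl hl
    · exact absurd (hi.trans hl.symm) hne
    · rw [sub_mul, one_mul, hsg l hl, sub_self]
    · rw [mul_comm, sub_mul, one_mul, hsg i hi, sub_self]
    · exact horth.ortho hne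
  · rw [← Finset.add_sum_erase _ _ (Finset.mem_univ (0 : Fin (m + 1)))]
    have : ∀ l ∈ Finset.univ.erase (0 : Fin (m + 1)), f l = g l := fun l hl =>
      if_neg (Finset.ne_of_mem_erase hl)
    rw [Finset.sum_congr rfl this]
    simp [f]
  · simp only [f]
    split_ifs with hi hij hij
    · subst hi
      rw [map_sub, map_one, map_sum, Finset.sum_eq_zero fun l hl => ?_, sub_zero]
      rw [hgev, if_neg]
      rw [← hij]
      exact Finset.ne_of_mem_erase hl
    · subst hi
      rw [map_sub, map_one, map_sum, Finset.sum_eq_single j, hgev, if_pos rfl, sub_self]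
      · intro l _ hl
        rw [hgev, if_neg hl]
      · exact fun h => absurd (Finset.mem_erase.2 ⟨fun e => hij e.symm, Finset.mem_univ j⟩) h
    · rw [hgev, if_pos hij]
    · rw [hgev, if_neg hij]

end separate

section single

variable {R' T : Type u} [CommRing R'] [CommRing T] [Algebra R' T] [Algebra.IsIntegral R' T]
  {Ω : Type u} [Field Ω] [IsAlgClosed Ω] [Algebra R' Ω]

/-- An integral algebra with a single geometric point has a single prime over the point, with
purely inseparable residue extension. -/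
theorem exists_unique_prime (p' : PrimeSpectrum R') (hp' : p'.asIdeal = RingHom.ker (algebraMap R' Ω))
    (ψ : T →ₐ[R'] Ω) (huniq : ∀ ψ' : T →ₐ[R'] Ω, ψ' = ψ) :
    ∃ (r : PrimeSpectrum T) (hr : r.asIdeal.comap (algebraMap R' T) = p'.asIdeal),
      (∀ r' : PrimeSpectrum T, r'.asIdeal.comap (algebraMap R' T) = p'.asIdeal → r' = r) ∧
      letI := (Ideal.ResidueField.map p'.asIdeal r.asIdeal (algebraMap R' T) hr.symm).toAlgebra
      IsPurelyInseparable p'.asIdeal.ResidueField r.asIdeal.ResidueField := by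
  classical
  letI : Algebra p'.asIdeal.ResidueField Ω := (Ideal.ResidueField.lift p'.asIdeal (algebraMap R' Ω)
    hp'.le fun x hx => IsUnit.mk0 _ fun h0 => hx (hp'.symm ▸ RingHom.mem_ker.2 h0)).toAlgebra
  haveI : IsScalarTower R' p'.asIdeal.ResidueField Ω := .of_algebraMap_eq fun x =>
    (Ideal.ResidueField.lift_algebraMap (I := p'.asIdeal) _ _ _ x).symm
  -- every prime over `p'` carries points
  have key : ∀ (Q : Ideal T) [Q.IsPrime] (hQ : Q.comap (algebraMap R' T) = p'.asIdeal),
      letI := (Ideal.ResidueField.map p'.asIdeal Q (algebraMap R' T) hQ.symm).toAlgebra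
      Algebra.IsAlgebraic p'.asIdeal.ResidueField Q.ResidueField ∧
        ∀ τ : Q.ResidueField →ₐ[p'.asIdeal.ResidueField] Ω,
          (∀ t, τ (algebraMap T Q.ResidueField t) = ψ t) ∧ RingHom.ker ψ = Q := by
    intro Q _ hQ
    letI : Algebra p'.asIdeal.ResidueField Q.ResidueField :=
      (Ideal.ResidueField.map p'.asIdeal Q (algebraMap R' T) hQ.symm).toAlgebra
    haveI : IsScalarTower R' p'.asIdeal.ResidueField Q.ResidueField := .of_algebraMap_eq fun x => by
      rw [RingHom.algebraMap_toAlgebra, Ideal.ResidueField.map_algebraMap,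
        ← IsScalarTower.algebraMap_apply]
    refine ⟨⟨fun z => ?_⟩, fun τ => ?_⟩
    · obtain ⟨⟨a, b⟩, hab⟩ := IsLocalization.surj (nonZeroDivisors (T ⧸ Q)) z
      obtain ⟨a, rfl⟩ := Ideal.Quotient.mk_surjective a
      obtain ⟨b', hb'⟩ := Ideal.Quotient.mk_surjective (b : T ⧸ Q)
      have hk : ∀ c : T, IsIntegral p'.asIdeal.ResidueField (algebraMap T Q.ResidueField c) :=
        fun c => ((Algebra.IsIntegral.isIntegral (R := R') c).map
          (IsScalarTower.toAlgHom R' T Q.ResidueField)).tower_top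
      rw [← hb'] at hab
      simp only [Ideal.algebraMap_quotient_residueField_mk] at hab
      have hb0 : algebraMap T Q.ResidueField b' ≠ 0 := fun h => by
        rw [Ideal.algebraMap_residueField_eq_zero, ← Ideal.Quotient.eq_zero_iff_mem, hb'] at h
        exact nonZeroDivisors.ne_zero b.2 h
      rw [eq_div_of_mul_eq hb0 hab, div_eq_mul_inv]
      exact ((hk a).mul (hk b').inv).isAlgebraic
    · have hτ : ((τ.restrictScalars R').comp (IsScalarTower.toAlgHom R' T Q.ResidueField)) = ψ :=
        huniq _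
      refine ⟨fun t => AlgHom.congr_fun hτ t, Ideal.ext fun t => ?_⟩
      rw [RingHom.mem_ker, ← AlgHom.congr_fun hτ t, ← Ideal.algebraMap_residueField_eq_zero (I := Q)]
      exact map_eq_zero τ
  let r : PrimeSpectrum T := ⟨RingHom.ker ψ, RingHom.ker_isPrime ψ⟩
  have hr : r.asIdeal.comap (algebraMap R' T) = p'.asIdeal := by
    rw [hp']
    exact Ideal.ext fun x => by simp [r]
  haveI hrp : r.asIdeal.IsPrime := RingHom.ker_isPrime ψ
  refine ⟨r, hr, fun r' hr' => ?_, ?_⟩
  · letI := (Ideal.ResidueField.map p'.asIdeal r'.asIdeal (algebraMap R' T) hr'.symm).toAlgebra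
    obtain ⟨halg, hker⟩ := key r'.asIdeal hr'
    haveI := halg
    exact PrimeSpectrum.ext (hker IsAlgClosed.lift).2.symm
  · letI := (Ideal.ResidueField.map p'.asIdeal r.asIdeal (algebraMap R' T) hr.symm).toAlgebra
    obtain ⟨halg, hker⟩ := key r.asIdeal hr
    haveI := halg
    rw [isPurelyInseparable_iff_finSepDegree_eq_one, Field.finSepDegree,
      Nat.card_eq_one_iff_unique]
    refine ⟨⟨fun σ σ' => ?_⟩, ⟨IsAlgClosed.lift⟩⟩
    let ι : AlgebraicClosure r.asIdeal.ResidueField →ₐ[p'.asIdeal.ResidueField] Ω :=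
      haveI : Algebra.IsAlgebraic p'.asIdeal.ResidueField (AlgebraicClosure r.asIdeal.ResidueField) :=
        Algebra.IsAlgebraic.trans p'.asIdeal.ResidueField r.asIdeal.ResidueField _
      IsAlgClosed.lift
    refine AlgHom.ext fun z => ι.toRingHom.injective ?_
    have h : (ι.comp σ : r.asIdeal.ResidueField →+* Ω) = (ι.comp σ' : r.asIdeal.ResidueField →+* Ω) :=
      Ideal.ResidueField.ringHom_ext (RingHom.ext fun t =>
        ((hker (ι.comp σ)).1 t).trans ((hker (ι.comp σ')).1 t).symm)
    exact RingHom.congr_fun h z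

end single

end Groth.IntSplit
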